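import Cfsg.Agent.Helper40.Frame.Defs

/-!
# (F-ADDL) additivity of the Eichler transformations in the first argument (helper29 for helper40, S2413)
-/

set_option autoImplicit false

namespace Cfsg.Agent.Helper40.Frame

open Matrix QuadraticMap Cfsg.Agent.Helper44 Cfsg.Agent.Helper45.OmegaParity Cfsg.Agent.Helper5

variable {F : Type*} [Field F] {ι : Type} [Fintype ι] [DecidableEq ι]
variable {Q : QuadraticForm F (ι → F)} {k : ℕ} (Fr : HFrame Q k)

/-- `E(u + u', w) = E(u, w) E(u', w) E(u, Q(w) u')` for orthogonal singular `u, u'` both orthogonal to `w` -/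
theorem eichlerO_add_left {u u' w : ι → F} (hu : Q u = 0) (hu' : Q u' = 0) (huu' : polar ⇑Q u u' = 0)
    (huw : polar ⇑Q u w = 0) (hu'w : polar ⇑Q u' w = 0) :
    eichlerO Q (u + u') w = eichlerO Q u w * eichlerO Q u' w * eichlerO Q u (Q w • u') := by
  have huu : polar ⇑Q u u = 0 := by rw [QuadraticMap.polar_self, hu, smul_zero]
  have hu'u' : polar ⇑Q u' u' = 0 := by rw [QuadraticMap.polar_self, hu', smul_zero]
  have hu'u : polar ⇑Q u' u = 0 := by rw [QuadraticMap.polar_comm]; exact huu'
  have hwu : polar ⇑Q w u = 0 := by rw [QuadraticMap.polar_comm]; exact huw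
  have hwu' : polar ⇑Q w u' = 0 := by rw [QuadraticMap.polar_comm]; exact hu'w
  have hww : polar ⇑Q w w = 2 * Q w := by rw [QuadraticMap.polar_self]; simp
  have hQs : Q (u + u') = 0 := by
    rw [QuadraticMap.map_add Q u u', hu, hu', huu']; simp
  have hsw : polar ⇑Q (u + u') w = 0 := by rw [QuadraticMap.polar_add_left, huw, hu'w, add_zero]
  have hu_s : polar ⇑Q u (Q w • u') = 0 := by rw [QuadraticMap.polar_smul_right, huu', smul_zero]
  have hQs' : Q (Q w • u') = 0 := by rw [QuadraticMap.map_smul, hu', smul_zero]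
  apply isom_ext
  intro x
  rw [lin_mul_apply, lin_mul_apply, lin_eichlerO Q hQs hsw, lin_eichlerO Q hu hu_s x,
    lin_eichlerO Q hu' hu'w, lin_eichlerO Q hu huw, hQs']
  simp only [QuadraticMap.polar_add_right, QuadraticMap.polar_sub_right, QuadraticMap.polar_smul_right,
    QuadraticMap.polar_add_left, QuadraticMap.polar_smul_left, smul_eq_mul,
    huu, hu'u', huu', hu'u, huw, hwu, hwu', hww, mul_zero, zero_mul, add_zero, sub_zero, zero_smul]
  module

end Cfsg.Agent.Helper40.Frame
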