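import Cfsg.Agent.Helper40.Frame.Defs

/-!
# S2413 (helper40), piece (F-CRITA): the Eichler transformations `E(e_i, w)`, `E(f_i, w)` of a frame lie in
any subgroup containing the root elements (frame version of `OPlus/CritA.lean`)
-/

set_option autoImplicit false

namespace Cfsg.Agent.Helper40.Frame

open Matrix QuadraticMap Cfsg.Agent.Helper44 Cfsg.Agent.Helper45.OmegaParity Cfsg.Agent.Helper5

variable {F : Type*} [Field F] {ι : Type} [Fintype ι] [DecidableEq ι]
variable {Q : QuadraticForm F (ι → F)} {k : ℕ} (Fr : HFrame Q k)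

/-- the component of `w` in the complement of the frame -/
theorem decomp_mem_W (w : ι → F) :
    w - ∑ j, (polar ⇑Q (Fr.f j) w • Fr.e j + polar ⇑Q (Fr.e j) w • Fr.f j) ∈ Fr.W := by
  rw [Fr.mem_W]
  intro i
  constructor
  · rw [← QuadraticMap.polarBilin_apply_apply, map_sub, map_sum]
    simp only [map_add, map_smul, QuadraticMap.polarBilin_apply_apply, Fr.ee, Fr.ef, smul_eq_mul,
      mul_zero, zero_add, mul_ite, mul_one]
    rw [Finset.sum_ite_eq]
    simp
  · rw [← QuadraticMap.polarBilin_apply_apply, map_sub, map_sum]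
    simp only [map_add, map_smul, QuadraticMap.polarBilin_apply_apply, Fr.ff, Fr.fe, smul_eq_mul,
      mul_zero, add_zero, mul_ite, mul_one]
    rw [Finset.sum_ite_eq]
    simp

theorem critA_decomp (w : ι → F) :
    w = ∑ j, (polar ⇑Q (Fr.f j) w • Fr.e j + polar ⇑Q (Fr.e j) w • Fr.f j) +
      (w - ∑ j, (polar ⇑Q (Fr.f j) w • Fr.e j + polar ⇑Q (Fr.e j) w • Fr.f j)) := by
  abel

theorem eichler_e_mem (L : Subgroup (Cfsg.isometryGroup F ⇑Q))
    (hpp : ∀ i j : Fin k, i ≠ j → ∀ t : F, Fr.xpp i j t ∈ L)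
    (hpm : ∀ i j : Fin k, i ≠ j → ∀ t : F, Fr.xpm i j t ∈ L)
    (he : ∀ i : Fin k, ∀ z ∈ Fr.W, Fr.xe i z ∈ L)
    (i : Fin k) (w : ι → F) (hw : polar ⇑Q (Fr.e i) w = 0) :
    eichlerO Q (Fr.e i) w ∈ L := by
  classical
  have hadd : ∀ a b : ι → F,
      (polar ⇑Q (Fr.e i) a = 0 ∧ eichlerO Q (Fr.e i) a ∈ L) →
      (polar ⇑Q (Fr.e i) b = 0 ∧ eichlerO Q (Fr.e i) b ∈ L) →
      (polar ⇑Q (Fr.e i) (a + b) = 0 ∧ eichlerO Q (Fr.e i) (a + b) ∈ L) := by
    rintro a b ⟨ha, haL⟩ ⟨hb, hbL⟩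
    refine ⟨by rw [QuadraticMap.polar_add_right, ha, hb, add_zero], ?_⟩
    rw [← eichlerO_mul Q (Fr.Qe i) ha hb]
    exact L.mul_mem haL hbL
  have key : polar ⇑Q (Fr.e i)
        (∑ j, (polar ⇑Q (Fr.f j) w • Fr.e j + polar ⇑Q (Fr.e j) w • Fr.f j)) = 0 ∧
      eichlerO Q (Fr.e i)
        (∑ j, (polar ⇑Q (Fr.f j) w • Fr.e j + polar ⇑Q (Fr.e j) w • Fr.f j)) ∈ L := by
    refine Finset.sum_induction _
      (fun v : ι → F => polar ⇑Q (Fr.e i) v = 0 ∧ eichlerO Q (Fr.e i) v ∈ L) hadd ?_ ?_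
    · refine ⟨QuadraticMap.polar_zero_right _ _, ?_⟩
      rw [eichlerO_zero]
      exact L.one_mem
    · intro j _
      apply hadd
      · by_cases hji : j = i
        · subst hji
          refine ⟨Fr.polar_e_e j j _, ?_⟩
          have h := eichlerO_add_smul Q (u := Fr.e j) (w := 0) (Fr.Qe j)
            (QuadraticMap.polar_zero_right _ _) (polar ⇑Q (Fr.f j) w)
          rw [zero_add] at h
          rw [h, eichlerO_zero]
          exact L.one_mem
        · exact ⟨Fr.polar_e_e i j _, hpp i j (fun h => hji h.symm) _⟩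
      · by_cases hji : j = i
        · subst hji
          rw [hw, zero_smul]
          refine ⟨QuadraticMap.polar_zero_right _ _, ?_⟩
          rw [eichlerO_zero]
          exact L.one_mem
        · exact ⟨Fr.polar_e_f (fun h => hji h.symm) _, hpm i j (fun h => hji h.symm) _⟩
  have hW := decomp_mem_W Fr w
  have h2 := hadd _ _ key ⟨Fr.polar_e_W hW i, he i _ hW⟩
  rw [← critA_decomp Fr w] at h2
  exact h2.2

theorem eichler_f_mem (L : Subgroup (Cfsg.isometryGroup F ⇑Q))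
    (hpm : ∀ i j : Fin k, i ≠ j → ∀ t : F, Fr.xpm i j t ∈ L)
    (hmm : ∀ i j : Fin k, i ≠ j → ∀ t : F, Fr.xmm i j t ∈ L)
    (hf : ∀ i : Fin k, ∀ z ∈ Fr.W, Fr.xf i z ∈ L)
    (i : Fin k) (w : ι → F) (hw : polar ⇑Q (Fr.f i) w = 0) :
    eichlerO Q (Fr.f i) w ∈ L := by
  classical
  have hadd : ∀ a b : ι → F,
      (polar ⇑Q (Fr.f i) a = 0 ∧ eichlerO Q (Fr.f i) a ∈ L) →
      (polar ⇑Q (Fr.f i) b = 0 ∧ eichlerO Q (Fr.f i) b ∈ L) →
      (polar ⇑Q (Fr.f i) (a + b) = 0 ∧ eichlerO Q (Fr.f i) (a + b) ∈ L) := by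
    rintro a b ⟨ha, haL⟩ ⟨hb, hbL⟩
    refine ⟨by rw [QuadraticMap.polar_add_right, ha, hb, add_zero], ?_⟩
    rw [← eichlerO_mul Q (Fr.Qf i) ha hb]
    exact L.mul_mem haL hbL
  have key : polar ⇑Q (Fr.f i)
        (∑ j, (polar ⇑Q (Fr.f j) w • Fr.e j + polar ⇑Q (Fr.e j) w • Fr.f j)) = 0 ∧
      eichlerO Q (Fr.f i)
        (∑ j, (polar ⇑Q (Fr.f j) w • Fr.e j + polar ⇑Q (Fr.e j) w • Fr.f j)) ∈ L := by
    refine Finset.sum_induction _
      (fun v : ι → F => polar ⇑Q (Fr.f i) v = 0 ∧ eichlerO Q (Fr.f i) v ∈ L) hadd ?_ ?_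
    · refine ⟨QuadraticMap.polar_zero_right _ _, ?_⟩
      rw [eichlerO_zero]
      exact L.one_mem
    · intro j _
      apply hadd
      · by_cases hji : j = i
        · subst hji
          rw [hw, zero_smul]
          refine ⟨QuadraticMap.polar_zero_right _ _, ?_⟩
          rw [eichlerO_zero]
          exact L.one_mem
        · refine ⟨Fr.polar_f_e (fun h => hji h.symm) _, ?_⟩
          -- `E(f_i, t e_j) = xpm j i (-t)`
          have h := Fr.xpm_swap (i := j) (j := i) hji (-(polar ⇑Q (Fr.f j) w))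
          rw [neg_neg] at h
          rw [← h]
          exact hpm j i hji _
      · by_cases hji : j = i
        · subst hji
          refine ⟨Fr.polar_f_f j j _, ?_⟩
          have h := eichlerO_add_smul Q (u := Fr.f j) (w := 0) (Fr.Qf j)
            (QuadraticMap.polar_zero_right _ _) (polar ⇑Q (Fr.e j) w)
          rw [zero_add] at h
          rw [h, eichlerO_zero]
          exact L.one_mem
        · exact ⟨Fr.polar_f_f i j _, hmm i j (fun h => hji h.symm) _⟩
  have hW := decomp_mem_W Fr w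
  have h2 := hadd _ _ key ⟨Fr.polar_f_W hW i, hf i _ hW⟩
  rw [← critA_decomp Fr w] at h2
  exact h2.2

end Cfsg.Agent.Helper40.Frame
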