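import Cfsg.Agent.Helper40.Frame.Defs

/-!
# (F-CRITB) moving a singular vector onto a frame vector (helper29 for helper40, S2413)
-/

set_option autoImplicit false

namespace Cfsg.Agent.Helper40.Frame

open Matrix QuadraticMap Cfsg.Agent.Helper44 Cfsg.Agent.Helper45.OmegaParity Cfsg.Agent.Helper5

variable {F : Type*} [Field F] {ι : Type} [Fintype ι] [DecidableEq ι]
variable {Q : QuadraticForm F (ι → F)} {k : ℕ} (Fr : HFrame Q k)

/-- for a hyperbolic pair `(e, f)` and a singular `u` with `a = B(f, u) ≠ 0`, some `E(f, w)` moves `u` to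
`a e` -/
theorem move_hyperbolic {e f u : ι → F} (he : Q e = 0) (hf : Q f = 0) (hfe : polar ⇑Q f e = 1)
    (hu : Q u = 0) (ha : polar ⇑Q f u ≠ 0) :
    ∃ w : ι → F, polar ⇑Q f w = 0 ∧ lin Q (eichlerO Q f w) u = polar ⇑Q f u • e := by
  set a : F := polar ⇑Q f u with ha'
  set b : F := polar ⇑Q e u with hb'
  have hef : polar ⇑Q e f = 1 := by rw [QuadraticMap.polar_comm]; exact hfe
  have hff : polar ⇑Q f f = 0 := by rw [QuadraticMap.polar_self, hf, smul_zero]
  have hee : polar ⇑Q e e = 0 := by rw [QuadraticMap.polar_self, he, smul_zero]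
  have huu : polar ⇑Q u u = 0 := by rw [QuadraticMap.polar_self, hu, smul_zero]
  have hue : polar ⇑Q u e = b := by rw [QuadraticMap.polar_comm]
  have huf : polar ⇑Q u f = a := by rw [QuadraticMap.polar_comm]
  set v : ι → F := u + ((-a) • e + (-b) • f) with hv
  have hQ1 : Q ((-a) • e + (-b) • f) = a * b := by
    rw [QuadraticMap.map_add Q ((-a) • e) ((-b) • f), QuadraticMap.map_smul, QuadraticMap.map_smul, he, hf,
      QuadraticMap.polar_smul_left, QuadraticMap.polar_smul_right, hef]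
    simp only [smul_eq_mul, mul_zero, zero_add, mul_one, neg_mul_neg]
  have hP1 : polar ⇑Q u ((-a) • e + (-b) • f) = -(2 * (a * b)) := by
    rw [QuadraticMap.polar_add_right, QuadraticMap.polar_smul_right, QuadraticMap.polar_smul_right, hue, huf]
    simp only [smul_eq_mul]
    ring
  have hQv : Q v = -(a * b) := by
    rw [hv, QuadraticMap.map_add Q u _, hu, hQ1, hP1]
    ring
  have hfv : polar ⇑Q f v = 0 := by
    rw [hv, QuadraticMap.polar_add_right, QuadraticMap.polar_add_right, QuadraticMap.polar_smul_right,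
      QuadraticMap.polar_smul_right, hfe, hff]
    simp only [smul_eq_mul, mul_one, mul_zero, add_zero]
    rw [← ha']
    ring
  have hvu : polar ⇑Q v u = -(2 * (a * b)) := by
    rw [hv, QuadraticMap.polar_add_left, QuadraticMap.polar_add_left, QuadraticMap.polar_smul_left,
      QuadraticMap.polar_smul_left, huu]
    simp only [smul_eq_mul]
    rw [← ha', ← hb']
    ring
  refine ⟨a⁻¹ • v, ?_, ?_⟩
  · rw [QuadraticMap.polar_smul_right, hfv, smul_zero]
  · have hfw : polar ⇑Q f (a⁻¹ • v) = 0 := by rw [QuadraticMap.polar_smul_right, hfv, smul_zero]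
    rw [lin_eichlerO Q hf hfw, QuadraticMap.polar_smul_left, hvu, QuadraticMap.map_smul, hQv, ← ha']
    have h1 : a • a⁻¹ • v = v := by rw [smul_smul, mul_inv_cancel₀ ha, one_smul]
    have h2 : a⁻¹ • (-(2 * (a * b))) = -(2 * b) := by
      rw [smul_eq_mul]
      field_simp
    have h3 : (a⁻¹ * a⁻¹) • (-(a * b)) * a = -b := by
      rw [smul_eq_mul]
      field_simp
    rw [h1, h2, h3, hv]
    module

/-- a singular vector `u` with `a = B(f_i, u) ≠ 0` is moved to `a e_i` by some `E(f_i, w)` -/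
theorem move_to_e (u : ι → F) (hu : Q u = 0) (i : Fin k) (ha : polar ⇑Q (Fr.f i) u ≠ 0) :
    ∃ w : ι → F, polar ⇑Q (Fr.f i) w = 0 ∧
      lin Q (eichlerO Q (Fr.f i) w) u = polar ⇑Q (Fr.f i) u • Fr.e i :=
  move_hyperbolic (Fr.Qe i) (Fr.Qf i) (Fr.fe_self i) hu ha

theorem move_to_f (u : ι → F) (hu : Q u = 0) (i : Fin k) (hb : polar ⇑Q (Fr.e i) u ≠ 0) :
    ∃ w : ι → F, polar ⇑Q (Fr.e i) w = 0 ∧
      lin Q (eichlerO Q (Fr.e i) w) u = polar ⇑Q (Fr.e i) u • Fr.f i :=
  move_hyperbolic (Fr.Qf i) (Fr.Qe i) (Fr.ef_self i) hu hb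

end Cfsg.Agent.Helper40.Frame
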