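import Mathlib
import Cfsg.Prelude.Def_Classical
import Cfsg.Agent.Helper44.EichlerOmega

/-!
# Hyperbolic frames in a quadratic space and the root elements they define (helper40, for S2413 / S2415)

`Q` a quadratic form on `ι → F`.  A *frame* of rank `k` is a family of `k` pairwise orthogonal hyperbolic pairs
`(e i, f i)`.  Its root elements are the Eichler transformations (`Cfsg.Agent.Helper5.eichlerO`)

* `xpp i j t = E(e_i, t e_j)`, `xpm i j t = E(e_i, t f_j)`, `xmm i j t = E(f_i, t f_j)`  (the roots `±ε_i ± ε_j`),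
* `xe i z = E(e_i, z)`, `xf i z = E(f_i, z)` for `z` in the complement `W = ⟨e, f⟩^⊥`  (the roots `±ε_i`).
-/

set_option autoImplicit false

namespace Cfsg.Agent.Helper40.Frame

open Matrix QuadraticMap Cfsg.Agent.Helper44 Cfsg.Agent.Helper45.OmegaParity Cfsg.Agent.Helper5

variable {F : Type*} [Field F] {ι : Type} [Fintype ι] [DecidableEq ι]

/-- a family of `k` pairwise orthogonal hyperbolic pairs -/
structure HFrame (Q : QuadraticForm F (ι → F)) (k : ℕ) where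
  /-- the first vectors of the pairs -/
  e : Fin k → ι → F
  /-- the second vectors of the pairs -/
  f : Fin k → ι → F
  Qe : ∀ i, Q (e i) = 0
  Qf : ∀ i, Q (f i) = 0
  ee : ∀ i j, polar ⇑Q (e i) (e j) = 0
  ff : ∀ i j, polar ⇑Q (f i) (f j) = 0
  ef : ∀ i j, polar ⇑Q (e i) (f j) = if i = j then 1 else 0

variable {Q : QuadraticForm F (ι → F)} {k : ℕ} (Fr : HFrame Q k)

namespace HFrame

theorem fe (i j : Fin k) : polar ⇑Q (Fr.f i) (Fr.e j) = if i = j then 1 else 0 := by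
  rw [QuadraticMap.polar_comm, Fr.ef]
  by_cases h : i = j
  · rw [if_pos h, if_pos h.symm]
  · rw [if_neg h, if_neg (fun h' => h h'.symm)]

theorem ef_self (i : Fin k) : polar ⇑Q (Fr.e i) (Fr.f i) = 1 := by rw [Fr.ef, if_pos rfl]

theorem fe_self (i : Fin k) : polar ⇑Q (Fr.f i) (Fr.e i) = 1 := by rw [Fr.fe, if_pos rfl]

theorem ef_ne {i j : Fin k} (h : i ≠ j) : polar ⇑Q (Fr.e i) (Fr.f j) = 0 := by rw [Fr.ef, if_neg h]

theorem fe_ne {i j : Fin k} (h : i ≠ j) : polar ⇑Q (Fr.f i) (Fr.e j) = 0 := by rw [Fr.fe, if_neg h]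

/-- the orthogonal complement of the frame -/
def W : Submodule F (ι → F) where
  carrier := {z | ∀ i, polar ⇑Q (Fr.e i) z = 0 ∧ polar ⇑Q (Fr.f i) z = 0}
  add_mem' := by
    intro a b ha hb i
    rw [QuadraticMap.polar_add_right, QuadraticMap.polar_add_right, (ha i).1, (ha i).2, (hb i).1, (hb i).2,
      add_zero]
    exact ⟨rfl, rfl⟩
  zero_mem' := by
    intro i
    rw [QuadraticMap.polar_zero_right, QuadraticMap.polar_zero_right]
    exact ⟨rfl, rfl⟩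
  smul_mem' := by
    intro c a ha i
    rw [QuadraticMap.polar_smul_right, QuadraticMap.polar_smul_right, (ha i).1, (ha i).2, smul_zero]
    exact ⟨rfl, rfl⟩

theorem mem_W {z : ι → F} :
    z ∈ Fr.W ↔ ∀ i, polar ⇑Q (Fr.e i) z = 0 ∧ polar ⇑Q (Fr.f i) z = 0 := Iff.rfl

theorem polar_e_W {z : ι → F} (hz : z ∈ Fr.W) (i : Fin k) : polar ⇑Q (Fr.e i) z = 0 := (hz i).1

theorem polar_f_W {z : ι → F} (hz : z ∈ Fr.W) (i : Fin k) : polar ⇑Q (Fr.f i) z = 0 := (hz i).2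

/-- root element for `ε_i + ε_j` -/
noncomputable def xpp (i j : Fin k) (t : F) : Cfsg.isometryGroup F ⇑Q := eichlerO Q (Fr.e i) (t • Fr.e j)

/-- root element for `ε_i - ε_j` -/
noncomputable def xpm (i j : Fin k) (t : F) : Cfsg.isometryGroup F ⇑Q := eichlerO Q (Fr.e i) (t • Fr.f j)

/-- root element for `-ε_i - ε_j` -/
noncomputable def xmm (i j : Fin k) (t : F) : Cfsg.isometryGroup F ⇑Q := eichlerO Q (Fr.f i) (t • Fr.f j)

/-- root element for `ε_i` (`z` in the complement) -/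
noncomputable def xe (i : Fin k) (z : ι → F) : Cfsg.isometryGroup F ⇑Q := eichlerO Q (Fr.e i) z

/-- root element for `-ε_i` (`z` in the complement) -/
noncomputable def xf (i : Fin k) (z : ι → F) : Cfsg.isometryGroup F ⇑Q := eichlerO Q (Fr.f i) z

theorem polar_e_e (i j : Fin k) (t : F) : polar ⇑Q (Fr.e i) (t • Fr.e j) = 0 := by
  rw [QuadraticMap.polar_smul_right, Fr.ee, smul_zero]

theorem polar_f_f (i j : Fin k) (t : F) : polar ⇑Q (Fr.f i) (t • Fr.f j) = 0 := by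
  rw [QuadraticMap.polar_smul_right, Fr.ff, smul_zero]

theorem polar_e_f {i j : Fin k} (hij : i ≠ j) (t : F) : polar ⇑Q (Fr.e i) (t • Fr.f j) = 0 := by
  rw [QuadraticMap.polar_smul_right, Fr.ef_ne hij, smul_zero]

theorem polar_f_e {i j : Fin k} (hij : i ≠ j) (t : F) : polar ⇑Q (Fr.f i) (t • Fr.e j) = 0 := by
  rw [QuadraticMap.polar_smul_right, Fr.fe_ne hij, smul_zero]

theorem Q_smul_e (i : Fin k) (t : F) : Q (t • Fr.e i) = 0 := by
  rw [QuadraticMap.map_smul, Fr.Qe, smul_zero]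

theorem Q_smul_f (i : Fin k) (t : F) : Q (t • Fr.f i) = 0 := by
  rw [QuadraticMap.map_smul, Fr.Qf, smul_zero]

theorem lin_xpp (i j : Fin k) (t : F) (x : ι → F) :
    lin Q (Fr.xpp i j t) x
      = x + (t * polar ⇑Q (Fr.e j) x) • Fr.e i - (t * polar ⇑Q (Fr.e i) x) • Fr.e j := by
  unfold xpp
  rw [lin_eichlerO _ (Fr.Qe i) (Fr.polar_e_e i j t), Fr.Q_smul_e, zero_mul, zero_smul, sub_zero,
    QuadraticMap.polar_smul_left, smul_eq_mul, smul_smul, mul_comm (polar ⇑Q (Fr.e i) x) t]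

theorem lin_xpm {i j : Fin k} (hij : i ≠ j) (t : F) (x : ι → F) :
    lin Q (Fr.xpm i j t) x
      = x + (t * polar ⇑Q (Fr.f j) x) • Fr.e i - (t * polar ⇑Q (Fr.e i) x) • Fr.f j := by
  unfold xpm
  rw [lin_eichlerO _ (Fr.Qe i) (Fr.polar_e_f hij t), Fr.Q_smul_f, zero_mul, zero_smul, sub_zero,
    QuadraticMap.polar_smul_left, smul_eq_mul, smul_smul, mul_comm (polar ⇑Q (Fr.e i) x) t]

theorem lin_xmm (i j : Fin k) (t : F) (x : ι → F) :
    lin Q (Fr.xmm i j t) x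
      = x + (t * polar ⇑Q (Fr.f j) x) • Fr.f i - (t * polar ⇑Q (Fr.f i) x) • Fr.f j := by
  unfold xmm
  rw [lin_eichlerO _ (Fr.Qf i) (Fr.polar_f_f i j t), Fr.Q_smul_f, zero_mul, zero_smul, sub_zero,
    QuadraticMap.polar_smul_left, smul_eq_mul, smul_smul, mul_comm (polar ⇑Q (Fr.f i) x) t]

theorem lin_xe (i : Fin k) {z : ι → F} (hz : z ∈ Fr.W) (x : ι → F) :
    lin Q (Fr.xe i z) x
      = x + polar ⇑Q z x • Fr.e i - polar ⇑Q (Fr.e i) x • z - (Q z * polar ⇑Q (Fr.e i) x) • Fr.e i := by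
  unfold xe
  rw [lin_eichlerO _ (Fr.Qe i) (Fr.polar_e_W hz i)]

theorem lin_xf (i : Fin k) {z : ι → F} (hz : z ∈ Fr.W) (x : ι → F) :
    lin Q (Fr.xf i z) x
      = x + polar ⇑Q z x • Fr.f i - polar ⇑Q (Fr.f i) x • z - (Q z * polar ⇑Q (Fr.f i) x) • Fr.f i := by
  unfold xf
  rw [lin_eichlerO _ (Fr.Qf i) (Fr.polar_f_W hz i)]

theorem xpp_add (i j : Fin k) (s t : F) : Fr.xpp i j s * Fr.xpp i j t = Fr.xpp i j (s + t) := by
  unfold xpp
  rw [eichlerO_mul _ (Fr.Qe i) (Fr.polar_e_e i j s) (Fr.polar_e_e i j t), add_smul]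

theorem xpm_add {i j : Fin k} (hij : i ≠ j) (s t : F) : Fr.xpm i j s * Fr.xpm i j t = Fr.xpm i j (s + t) := by
  unfold xpm
  rw [eichlerO_mul _ (Fr.Qe i) (Fr.polar_e_f hij s) (Fr.polar_e_f hij t), add_smul]

theorem xmm_add (i j : Fin k) (s t : F) : Fr.xmm i j s * Fr.xmm i j t = Fr.xmm i j (s + t) := by
  unfold xmm
  rw [eichlerO_mul _ (Fr.Qf i) (Fr.polar_f_f i j s) (Fr.polar_f_f i j t), add_smul]

theorem xe_add (i : Fin k) {z z' : ι → F} (hz : z ∈ Fr.W) (hz' : z' ∈ Fr.W) :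
    Fr.xe i z * Fr.xe i z' = Fr.xe i (z + z') := by
  unfold xe
  rw [eichlerO_mul _ (Fr.Qe i) (Fr.polar_e_W hz i) (Fr.polar_e_W hz' i)]

theorem xf_add (i : Fin k) {z z' : ι → F} (hz : z ∈ Fr.W) (hz' : z' ∈ Fr.W) :
    Fr.xf i z * Fr.xf i z' = Fr.xf i (z + z') := by
  unfold xf
  rw [eichlerO_mul _ (Fr.Qf i) (Fr.polar_f_W hz i) (Fr.polar_f_W hz' i)]

theorem xpp_zero (i j : Fin k) : Fr.xpp i j (0 : F) = 1 := by
  unfold xpp
  rw [zero_smul, eichlerO_zero]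

theorem xpm_zero (i j : Fin k) : Fr.xpm i j (0 : F) = 1 := by
  unfold xpm
  rw [zero_smul, eichlerO_zero]

theorem xmm_zero (i j : Fin k) : Fr.xmm i j (0 : F) = 1 := by
  unfold xmm
  rw [zero_smul, eichlerO_zero]

theorem xe_zero (i : Fin k) : Fr.xe i (0 : ι → F) = 1 := eichlerO_zero _ _

theorem xf_zero (i : Fin k) : Fr.xf i (0 : ι → F) = 1 := eichlerO_zero _ _

theorem xpp_inv (i j : Fin k) (t : F) : (Fr.xpp i j t)⁻¹ = Fr.xpp i j (-t) := by
  rw [inv_eq_iff_mul_eq_one, xpp_add, add_neg_cancel, xpp_zero]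

theorem xpm_inv {i j : Fin k} (hij : i ≠ j) (t : F) : (Fr.xpm i j t)⁻¹ = Fr.xpm i j (-t) := by
  rw [inv_eq_iff_mul_eq_one, Fr.xpm_add hij, add_neg_cancel, xpm_zero]

theorem xmm_inv (i j : Fin k) (t : F) : (Fr.xmm i j t)⁻¹ = Fr.xmm i j (-t) := by
  rw [inv_eq_iff_mul_eq_one, xmm_add, add_neg_cancel, xmm_zero]

theorem xe_inv (i : Fin k) {z : ι → F} (hz : z ∈ Fr.W) : (Fr.xe i z)⁻¹ = Fr.xe i (-z) := by
  rw [inv_eq_iff_mul_eq_one, Fr.xe_add i hz (Fr.W.neg_mem hz), add_neg_cancel, xe_zero]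

theorem xf_inv (i : Fin k) {z : ι → F} (hz : z ∈ Fr.W) : (Fr.xf i z)⁻¹ = Fr.xf i (-z) := by
  rw [inv_eq_iff_mul_eq_one, Fr.xf_add i hz (Fr.W.neg_mem hz), add_neg_cancel, xf_zero]

theorem xpp_pow (i j : Fin k) (t : F) (n : ℕ) : Fr.xpp i j t ^ n = Fr.xpp i j ((n : F) * t) := by
  induction n with
  | zero => rw [pow_zero, Nat.cast_zero, zero_mul, xpp_zero]
  | succ n ih => rw [pow_succ, ih, xpp_add, Nat.cast_succ, add_mul, one_mul]

theorem xpm_pow {i j : Fin k} (hij : i ≠ j) (t : F) (n : ℕ) : Fr.xpm i j t ^ n = Fr.xpm i j ((n : F) * t) := by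
  induction n with
  | zero => rw [pow_zero, Nat.cast_zero, zero_mul, xpm_zero]
  | succ n ih => rw [pow_succ, ih, Fr.xpm_add hij, Nat.cast_succ, add_mul, one_mul]

theorem xmm_pow (i j : Fin k) (t : F) (n : ℕ) : Fr.xmm i j t ^ n = Fr.xmm i j ((n : F) * t) := by
  induction n with
  | zero => rw [pow_zero, Nat.cast_zero, zero_mul, xmm_zero]
  | succ n ih => rw [pow_succ, ih, xmm_add, Nat.cast_succ, add_mul, one_mul]

theorem xe_pow (i : Fin k) {z : ι → F} (hz : z ∈ Fr.W) (n : ℕ) : Fr.xe i z ^ n = Fr.xe i ((n : F) • z) := by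
  induction n with
  | zero => rw [pow_zero, Nat.cast_zero, zero_smul, xe_zero]
  | succ n ih => rw [pow_succ, ih, Fr.xe_add i (Fr.W.smul_mem _ hz) hz, Nat.cast_succ, add_smul, one_smul]

theorem xf_pow (i : Fin k) {z : ι → F} (hz : z ∈ Fr.W) (n : ℕ) : Fr.xf i z ^ n = Fr.xf i ((n : F) • z) := by
  induction n with
  | zero => rw [pow_zero, Nat.cast_zero, zero_smul, xf_zero]
  | succ n ih => rw [pow_succ, ih, Fr.xf_add i (Fr.W.smul_mem _ hz) hz, Nat.cast_succ, add_smul, one_smul]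

end HFrame

/-- `E(u, w) = E(w, -u)` for singular `u`, `w` with `B(u, w) = 0` -/
theorem eichlerO_swap {u w : ι → F} (hu : Q u = 0) (hw : Q w = 0) (huw : polar ⇑Q u w = 0) :
    eichlerO Q u w = eichlerO Q w (-u) := by
  have hwu : polar ⇑Q w (-u) = 0 := by
    rw [QuadraticMap.polar_neg_right, QuadraticMap.polar_comm, huw, neg_zero]
  apply isom_ext
  intro x
  rw [lin_eichlerO _ hu huw, lin_eichlerO _ hw hwu, hw, QuadraticMap.map_neg, hu,
    QuadraticMap.polar_neg_left]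
  simp only [zero_mul, zero_smul, sub_zero, neg_smul, smul_neg, sub_neg_eq_add]
  abel

theorem eichlerO_zero_left (w : ι → F) : eichlerO Q 0 w = 1 := by
  apply isom_ext
  intro x
  rw [lin_eichlerO _ (map_zero _) (QuadraticMap.polar_zero_left _ _), lin_one_apply,
    QuadraticMap.polar_zero_left]
  simp

namespace HFrame

/-- `E(e_i, t e_j) = E(e_j, -t e_i)` -/
theorem xpp_symm (i j : Fin k) (t : F) : Fr.xpp i j t = Fr.xpp j i (-t) := by
  unfold xpp
  rw [eichlerO_swap (Fr.Qe i) (Fr.Q_smul_e j t) (Fr.polar_e_e i j t),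
    eichlerO_smul_left _ (Fr.Qe j) (by rw [QuadraticMap.polar_neg_right, Fr.ee, neg_zero]) t,
    smul_neg, neg_smul]

theorem xmm_symm (i j : Fin k) (t : F) : Fr.xmm i j t = Fr.xmm j i (-t) := by
  unfold xmm
  rw [eichlerO_swap (Fr.Qf i) (Fr.Q_smul_f j t) (Fr.polar_f_f i j t),
    eichlerO_smul_left _ (Fr.Qf j) (by rw [QuadraticMap.polar_neg_right, Fr.ff, neg_zero]) t,
    smul_neg, neg_smul]

/-- `E(e_i, t f_j) = E(f_j, -t e_i)` -/
theorem xpm_swap {i j : Fin k} (hij : i ≠ j) (t : F) :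
    Fr.xpm i j t = eichlerO Q (Fr.f j) ((-t) • Fr.e i) := by
  unfold xpm
  rw [eichlerO_swap (Fr.Qe i) (Fr.Q_smul_f j t) (Fr.polar_e_f hij t),
    eichlerO_smul_left _ (Fr.Qf j) (by rw [QuadraticMap.polar_neg_right, Fr.fe_ne hij.symm, neg_zero]) t,
    smul_neg, neg_smul]

/-- conjugation of the root elements -/
theorem conj_xpp (g : Cfsg.isometryGroup F ⇑Q) (i j : Fin k) (t : F) :
    g * Fr.xpp i j t * g⁻¹ = eichlerO Q (lin Q g (Fr.e i)) (t • lin Q g (Fr.e j)) := by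
  unfold xpp
  rw [eichlerO_conj _ g (Fr.Qe i) (Fr.polar_e_e i j t), map_smul]

theorem conj_xpm (g : Cfsg.isometryGroup F ⇑Q) {i j : Fin k} (hij : i ≠ j) (t : F) :
    g * Fr.xpm i j t * g⁻¹ = eichlerO Q (lin Q g (Fr.e i)) (t • lin Q g (Fr.f j)) := by
  unfold xpm
  rw [eichlerO_conj _ g (Fr.Qe i) (Fr.polar_e_f hij t), map_smul]

theorem conj_xmm (g : Cfsg.isometryGroup F ⇑Q) (i j : Fin k) (t : F) :
    g * Fr.xmm i j t * g⁻¹ = eichlerO Q (lin Q g (Fr.f i)) (t • lin Q g (Fr.f j)) := by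
  unfold xmm
  rw [eichlerO_conj _ g (Fr.Qf i) (Fr.polar_f_f i j t), map_smul]

theorem conj_xe (g : Cfsg.isometryGroup F ⇑Q) (i : Fin k) {z : ι → F} (hz : z ∈ Fr.W) :
    g * Fr.xe i z * g⁻¹ = eichlerO Q (lin Q g (Fr.e i)) (lin Q g z) := by
  unfold xe
  rw [eichlerO_conj _ g (Fr.Qe i) (Fr.polar_e_W hz i)]

theorem conj_xf (g : Cfsg.isometryGroup F ⇑Q) (i : Fin k) {z : ι → F} (hz : z ∈ Fr.W) :
    g * Fr.xf i z * g⁻¹ = eichlerO Q (lin Q g (Fr.f i)) (lin Q g z) := by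
  unfold xf
  rw [eichlerO_conj _ g (Fr.Qf i) (Fr.polar_f_W hz i)]

/-! ### values of the root elements on the frame vectors and on the complement -/

theorem xpp_e (i j l : Fin k) (t : F) : lin Q (Fr.xpp i j t) (Fr.e l) = Fr.e l := by
  rw [lin_xpp, Fr.ee, Fr.ee, mul_zero, zero_smul, zero_smul, add_zero, sub_zero]

theorem xmm_f (i j l : Fin k) (t : F) : lin Q (Fr.xmm i j t) (Fr.f l) = Fr.f l := by
  rw [lin_xmm, Fr.ff, Fr.ff, mul_zero, zero_smul, zero_smul, add_zero, sub_zero]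

theorem xpp_f (i j l : Fin k) (t : F) :
    lin Q (Fr.xpp i j t) (Fr.f l)
      = Fr.f l + (if l = j then t else 0) • Fr.e i - (if l = i then t else 0) • Fr.e j := by
  rw [lin_xpp, Fr.ef, Fr.ef]
  congr 2
  · by_cases h : j = l
    · rw [if_pos h, if_pos h.symm, mul_one]
    · rw [if_neg h, if_neg (fun h' => h h'.symm), mul_zero]
  · by_cases h : i = l
    · rw [if_pos h, if_pos h.symm, mul_one]
    · rw [if_neg h, if_neg (fun h' => h h'.symm), mul_zero]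

theorem xmm_e (i j l : Fin k) (t : F) :
    lin Q (Fr.xmm i j t) (Fr.e l)
      = Fr.e l + (if l = j then t else 0) • Fr.f i - (if l = i then t else 0) • Fr.f j := by
  rw [lin_xmm, Fr.fe, Fr.fe]
  congr 2
  · by_cases h : j = l
    · rw [if_pos h, if_pos h.symm, mul_one]
    · rw [if_neg h, if_neg (fun h' => h h'.symm), mul_zero]
  · by_cases h : i = l
    · rw [if_pos h, if_pos h.symm, mul_one]
    · rw [if_neg h, if_neg (fun h' => h h'.symm), mul_zero]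

theorem xpm_e {i j : Fin k} (hij : i ≠ j) (l : Fin k) (t : F) :
    lin Q (Fr.xpm i j t) (Fr.e l) = Fr.e l + (if l = j then t else 0) • Fr.e i := by
  rw [Fr.lin_xpm hij, Fr.fe, Fr.ee, mul_zero, zero_smul, sub_zero]
  congr 2
  by_cases h : j = l
  · rw [if_pos h, if_pos h.symm, mul_one]
  · rw [if_neg h, if_neg (fun h' => h h'.symm), mul_zero]

theorem xpm_f {i j : Fin k} (hij : i ≠ j) (l : Fin k) (t : F) :
    lin Q (Fr.xpm i j t) (Fr.f l) = Fr.f l - (if l = i then t else 0) • Fr.f j := by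
  rw [Fr.lin_xpm hij, Fr.ff, Fr.ef, mul_zero, zero_smul, add_zero]
  congr 2
  by_cases h : i = l
  · rw [if_pos h, if_pos h.symm, mul_one]
  · rw [if_neg h, if_neg (fun h' => h h'.symm), mul_zero]

theorem xpp_W (i j : Fin k) (t : F) {z : ι → F} (hz : z ∈ Fr.W) : lin Q (Fr.xpp i j t) z = z := by
  rw [lin_xpp, Fr.polar_e_W hz, Fr.polar_e_W hz, mul_zero, zero_smul, zero_smul, add_zero, sub_zero]

theorem xpm_W {i j : Fin k} (hij : i ≠ j) (t : F) {z : ι → F} (hz : z ∈ Fr.W) :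
    lin Q (Fr.xpm i j t) z = z := by
  rw [Fr.lin_xpm hij, Fr.polar_e_W hz, Fr.polar_f_W hz, mul_zero, zero_smul, zero_smul, add_zero, sub_zero]

theorem xmm_W (i j : Fin k) (t : F) {z : ι → F} (hz : z ∈ Fr.W) : lin Q (Fr.xmm i j t) z = z := by
  rw [lin_xmm, Fr.polar_f_W hz, Fr.polar_f_W hz, mul_zero, zero_smul, zero_smul, add_zero, sub_zero]

end HFrame

end Cfsg.Agent.Helper40.Frame
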