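import Cfsg.Agent.Helper40.Frame.Defs

/-!
# S2413 (helper40), piece (F-SPREAD), by helper33: one long root subgroup of type `ε_i + ε_j`
(resp. `-ε_i - ε_j`) together with all `xpm` gives all of them (frame version of `OPlus/Spread.lean`).
-/

set_option autoImplicit false

namespace Cfsg.Agent.Helper40.Frame

open Matrix QuadraticMap Cfsg.Agent.Helper44 Cfsg.Agent.Helper45.OmegaParity Cfsg.Agent.Helper5

variable {F : Type*} [Field F] {ι : Type} [Fintype ι] [DecidableEq ι]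
variable {Q : QuadraticForm F (ι → F)} {k : ℕ} (Fr : HFrame Q k)

theorem spread_pp (L : Subgroup (Cfsg.isometryGroup F ⇑Q))
    (hpm : ∀ i j : Fin k, i ≠ j → ∀ t : F, Fr.xpm i j t ∈ L)
    (i0 j0 : Fin k) (h0 : i0 ≠ j0) (h : ∀ t : F, Fr.xpp i0 j0 t ∈ L) :
    ∀ i j : Fin k, i ≠ j → ∀ t : F, Fr.xpp i j t ∈ L := by
  have stepB : ∀ i j l : Fin k, i ≠ j → l ≠ i → l ≠ j → (∀ t : F, Fr.xpp i j t ∈ L) →
      ∀ t : F, Fr.xpp i l t ∈ L := by
    intro i j l hij hli hlj hP t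
    have hg : Fr.xpm l j (1 : F) ∈ L := hpm l j hlj 1
    have hconj : Fr.xpm l j (1 : F) * Fr.xpp i j t * (Fr.xpm l j (1 : F))⁻¹
        = Fr.xpp i j t * Fr.xpp i l t := by
      rw [Fr.conj_xpp, Fr.xpm_e hlj, Fr.xpm_e hlj, if_neg hij, if_pos rfl, zero_smul, add_zero,
        one_smul]
      unfold HFrame.xpp
      rw [eichlerO_mul _ (Fr.Qe i) (Fr.polar_e_e i j t) (Fr.polar_e_e i l t), smul_add]
    have e : Fr.xpp i l t
        = (Fr.xpp i j t)⁻¹ * (Fr.xpm l j 1 * Fr.xpp i j t * (Fr.xpm l j 1)⁻¹) := by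
      rw [hconj]; group
    rw [e]
    exact L.mul_mem (L.inv_mem (hP t)) (L.mul_mem (L.mul_mem hg (hP t)) (L.inv_mem hg))
  have symm : ∀ i j : Fin k, (∀ t : F, Fr.xpp i j t ∈ L) → ∀ t : F, Fr.xpp j i t ∈ L := by
    intro i j hP t
    rw [Fr.xpp_symm j i t]
    exact hP (-t)
  have row : ∀ a b : Fin k, a ≠ b → (∀ t : F, Fr.xpp a b t ∈ L) →
      ∀ l : Fin k, l ≠ a → ∀ t : F, Fr.xpp a l t ∈ L := by
    intro a b hab hP l hla
    by_cases hlb : l = b
    · subst hlb; exact hP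
    · exact stepB a b l hab hla hlb hP
  intro i j hij
  by_cases hi : i = i0
  · subst hi
    exact row i j0 h0 h j hij.symm
  · have h1 := row i0 j0 h0 h i hi
    have h2 := symm i0 i h1
    exact row i i0 hi h2 j hij.symm

theorem spread_mm (L : Subgroup (Cfsg.isometryGroup F ⇑Q))
    (hpm : ∀ i j : Fin k, i ≠ j → ∀ t : F, Fr.xpm i j t ∈ L)
    (i0 j0 : Fin k) (h0 : i0 ≠ j0) (h : ∀ t : F, Fr.xmm i0 j0 t ∈ L) :
    ∀ i j : Fin k, i ≠ j → ∀ t : F, Fr.xmm i j t ∈ L := by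
  have stepB : ∀ i j l : Fin k, i ≠ j → l ≠ i → l ≠ j → (∀ t : F, Fr.xmm i j t ∈ L) →
      ∀ t : F, Fr.xmm i l t ∈ L := by
    intro i j l hij hli hlj hP t
    have hjl : j ≠ l := fun h => hlj h.symm
    have hg : Fr.xpm j l (-1 : F) ∈ L := hpm j l hjl (-1)
    have hconj : Fr.xpm j l (-1 : F) * Fr.xmm i j t * (Fr.xpm j l (-1 : F))⁻¹
        = Fr.xmm i j t * Fr.xmm i l t := by
      rw [Fr.conj_xmm, Fr.xpm_f hjl, Fr.xpm_f hjl, if_neg hij, if_pos rfl, zero_smul, sub_zero,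
        neg_smul, one_smul, sub_neg_eq_add]
      unfold HFrame.xmm
      rw [eichlerO_mul _ (Fr.Qf i) (Fr.polar_f_f i j t) (Fr.polar_f_f i l t), smul_add]
    have e : Fr.xmm i l t
        = (Fr.xmm i j t)⁻¹ * (Fr.xpm j l (-1) * Fr.xmm i j t * (Fr.xpm j l (-1))⁻¹) := by
      rw [hconj]; group
    rw [e]
    exact L.mul_mem (L.inv_mem (hP t)) (L.mul_mem (L.mul_mem hg (hP t)) (L.inv_mem hg))
  have symm : ∀ i j : Fin k, (∀ t : F, Fr.xmm i j t ∈ L) → ∀ t : F, Fr.xmm j i t ∈ L := by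
    intro i j hP t
    rw [Fr.xmm_symm j i t]
    exact hP (-t)
  have row : ∀ a b : Fin k, a ≠ b → (∀ t : F, Fr.xmm a b t ∈ L) →
      ∀ l : Fin k, l ≠ a → ∀ t : F, Fr.xmm a l t ∈ L := by
    intro a b hab hP l hla
    by_cases hlb : l = b
    · subst hlb; exact hP
    · exact stepB a b l hab hla hlb hP
  intro i j hij
  by_cases hi : i = i0
  · subst hi
    exact row i j0 h0 h j hij.symm
  · have h1 := row i0 j0 h0 h i hi
    have h2 := symm i0 i h1
    exact row i i0 hi h2 j hij.symm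

end Cfsg.Agent.Helper40.Frame
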