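import Cfsg.Agent.Helper40.Frame.Defs

/-!
# (F-SPREADE) spreading the short root elements `xe i z`, `xf i z` over all indices `i`
(helper48 for helper40, S2413 / S2415)
-/

set_option autoImplicit false

namespace Cfsg.Agent.Helper40.Frame

open Matrix QuadraticMap Cfsg.Agent.Helper44 Cfsg.Agent.Helper45.OmegaParity Cfsg.Agent.Helper5

variable {F : Type*} [Field F] {ι : Type} [Fintype ι] [DecidableEq ι]
variable {Q : QuadraticForm F (ι → F)} {k : ℕ} (Fr : HFrame Q k)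

/-- local copy of (F-ADDL) `eichlerO_add_left` (so that this file only depends on `Frame.Defs`):
`E(u + u', w) = E(u, w) E(u', w) E(u, Q(w) u')` -/
theorem eichlerO_add_left_aux {u u' w : ι → F} (hu : Q u = 0) (hu' : Q u' = 0) (huu' : polar ⇑Q u u' = 0)
    (huw : polar ⇑Q u w = 0) (hu'w : polar ⇑Q u' w = 0) :
    eichlerO Q (u + u') w = eichlerO Q u w * eichlerO Q u' w * eichlerO Q u (Q w • u') := by
  have hQs : Q (u + u') = 0 := by
    rw [QuadraticMap.map_add Q u u', hu, hu', huu', add_zero, add_zero]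
  have hsw : polar ⇑Q (u + u') w = 0 := by rw [QuadraticMap.polar_add_left, huw, hu'w, add_zero]
  have h3 : polar ⇑Q u (Q w • u') = 0 := by rw [QuadraticMap.polar_smul_right, huu', smul_zero]
  have huu : polar ⇑Q u u = 0 := by rw [QuadraticMap.polar_self, hu, smul_zero]
  have hu'u' : polar ⇑Q u' u' = 0 := by rw [QuadraticMap.polar_self, hu', smul_zero]
  have hu'u : polar ⇑Q u' u = 0 := by rw [QuadraticMap.polar_comm, huu']
  have hwu : polar ⇑Q w u = 0 := by rw [QuadraticMap.polar_comm, huw]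
  have hwu' : polar ⇑Q w u' = 0 := by rw [QuadraticMap.polar_comm, hu'w]
  have hww : polar ⇑Q w w = 2 * Q w := by rw [QuadraticMap.polar_self]; simp
  apply isom_ext
  intro x
  rw [lin_mul_apply, lin_mul_apply, lin_eichlerO Q hQs hsw, lin_eichlerO Q hu h3,
    lin_eichlerO Q hu' hu'w, lin_eichlerO Q hu huw]
  simp only [QuadraticMap.polar_add_right, QuadraticMap.polar_sub_right,
    QuadraticMap.polar_smul_right, QuadraticMap.polar_smul_left, QuadraticMap.polar_add_left, QuadraticMap.map_smul, hu', huu,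
    hu'u', huu', hu'u, hwu, hwu', huw, hww, smul_eq_mul, mul_zero, zero_mul, add_zero,
    sub_zero, zero_smul]
  module

theorem spread_e (L : Subgroup (Cfsg.isometryGroup F ⇑Q))
    (hpm : ∀ i j : Fin k, i ≠ j → ∀ t : F, Fr.xpm i j t ∈ L)
    (hpp : ∀ i j : Fin k, i ≠ j → ∀ t : F, Fr.xpp i j t ∈ L)
    (i0 : Fin k) (S : Submodule F (ι → F)) (hS : S ≤ Fr.W) (h : ∀ z ∈ S, Fr.xe i0 z ∈ L) :
    ∀ i : Fin k, ∀ z ∈ S, Fr.xe i z ∈ L := by
  intro i z hz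
  by_cases hi : i = i0
  · rw [hi]
    exact h z hz
  have hzW : z ∈ Fr.W := hS hz
  have hg : Fr.xpm i i0 1 ∈ L := hpm i i0 hi 1
  -- the conjugate
  have hconj : Fr.xpm i i0 1 * Fr.xe i0 z * (Fr.xpm i i0 1)⁻¹ ∈ L :=
    L.mul_mem (L.mul_mem hg (h z hz)) (L.inv_mem hg)
  have hge : lin Q (Fr.xpm i i0 1) (Fr.e i0) = Fr.e i0 + Fr.e i := by
    rw [Fr.xpm_e hi, if_pos rfl, one_smul]
  have hgz : lin Q (Fr.xpm i i0 1) z = z := Fr.xpm_W hi 1 hzW
  rw [Fr.conj_xe _ i0 hzW, hge, hgz,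
    eichlerO_add_left_aux (Fr.Qe i0) (Fr.Qe i) (Fr.ee i0 i) (Fr.polar_e_W hzW i0)
      (Fr.polar_e_W hzW i)] at hconj
  -- now `xe i0 z * xe i z * xpp i0 i (Q z) ∈ L`
  have h1 : Fr.xe i0 z ∈ L := h z hz
  have h2 : Fr.xpp i0 i (Q z) ∈ L := hpp i0 i (fun hh => hi hh.symm) (Q z)
  have key : Fr.xe i z = (Fr.xe i0 z)⁻¹ *
      (eichlerO Q (Fr.e i0) z * eichlerO Q (Fr.e i) z * eichlerO Q (Fr.e i0) (Q z • Fr.e i)) *
      (Fr.xpp i0 i (Q z))⁻¹ := by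
    unfold HFrame.xe HFrame.xpp
    group
  rw [key]
  exact L.mul_mem (L.mul_mem (L.inv_mem h1) hconj) (L.inv_mem h2)

theorem spread_f (L : Subgroup (Cfsg.isometryGroup F ⇑Q))
    (hpm : ∀ i j : Fin k, i ≠ j → ∀ t : F, Fr.xpm i j t ∈ L)
    (hmm : ∀ i j : Fin k, i ≠ j → ∀ t : F, Fr.xmm i j t ∈ L)
    (i0 : Fin k) (S : Submodule F (ι → F)) (hS : S ≤ Fr.W) (h : ∀ z ∈ S, Fr.xf i0 z ∈ L) :
    ∀ i : Fin k, ∀ z ∈ S, Fr.xf i z ∈ L := by
  intro i z hz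
  by_cases hi : i = i0
  · rw [hi]
    exact h z hz
  have hi' : i0 ≠ i := fun hh => hi hh.symm
  -- work with `z' = -z`
  have hz' : -z ∈ S := S.neg_mem hz
  have hzW : -z ∈ Fr.W := hS hz'
  have hg : Fr.xpm i0 i 1 ∈ L := hpm i0 i hi' 1
  have hconj : Fr.xpm i0 i 1 * Fr.xf i0 (-z) * (Fr.xpm i0 i 1)⁻¹ ∈ L :=
    L.mul_mem (L.mul_mem hg (h _ hz')) (L.inv_mem hg)
  have hgf : lin Q (Fr.xpm i0 i 1) (Fr.f i0) = Fr.f i0 + -Fr.f i := by
    rw [Fr.xpm_f hi', if_pos rfl, one_smul, sub_eq_add_neg]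
  have hgz : lin Q (Fr.xpm i0 i 1) (-z) = -z := Fr.xpm_W hi' 1 hzW
  have hQn : Q (-Fr.f i) = 0 := by rw [QuadraticMap.map_neg, Fr.Qf]
  have hp1 : polar ⇑Q (Fr.f i0) (-Fr.f i) = 0 := by
    rw [QuadraticMap.polar_neg_right, Fr.ff, neg_zero]
  have hp2 : polar ⇑Q (-Fr.f i) (-z) = 0 := by
    rw [QuadraticMap.polar_neg_left, Fr.polar_f_W hzW, neg_zero]
  rw [Fr.conj_xf _ i0 hzW, hgf, hgz,
    eichlerO_add_left_aux (Fr.Qf i0) hQn hp1 (Fr.polar_f_W hzW i0) hp2] at hconj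
  -- identify the factors
  have e2 : eichlerO Q (-Fr.f i) (-z) = Fr.xf i z := by
    have := eichlerO_smul_left Q (Fr.Qf i) (Fr.polar_f_W hzW i) (-1 : F)
    rw [neg_one_smul, neg_one_smul, neg_neg] at this
    exact this
  have e3 : eichlerO Q (Fr.f i0) (Q (-z) • -Fr.f i) = Fr.xmm i0 i (-(Q (-z))) := by
    unfold HFrame.xmm
    rw [smul_neg, neg_smul]
  rw [e2, e3] at hconj
  have h1 : Fr.xf i0 (-z) ∈ L := h _ hz'
  have h2 : Fr.xmm i0 i (-(Q (-z))) ∈ L := hmm i0 i hi' _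
  have key : Fr.xf i z = (Fr.xf i0 (-z))⁻¹ *
      (eichlerO Q (Fr.f i0) (-z) * Fr.xf i z * Fr.xmm i0 i (-(Q (-z)))) *
      (Fr.xmm i0 i (-(Q (-z))))⁻¹ := by
    unfold HFrame.xf
    group
  rw [key]
  exact L.mul_mem (L.mul_mem (L.inv_mem h1) hconj) (L.inv_mem h2)

end Cfsg.Agent.Helper40.Frame
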