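import Cfsg.Agent.Helper40.Frame.Defs

/-!
# (F-YSTEP) for S2413 (helper40; written by helper87): an element `y` mixing `f_p` with `e_p` and the
complement of the frame produces new root subgroups (frame version of `OPlus/YStep.lean`)
-/

set_option autoImplicit false
set_option linter.unusedVariables false
set_option linter.unusedSectionVars false

namespace Cfsg.Agent.Helper40.Frame

open Matrix QuadraticMap Cfsg.Agent.Helper44 Cfsg.Agent.Helper45.OmegaParity Cfsg.Agent.Helper5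

variable {F : Type*} [Field F] {ι : Type} [Fintype ι] [DecidableEq ι]
variable {Q : QuadraticForm F (ι → F)} {k : ℕ} (Fr : HFrame Q k)

/-- the common core of `ystep_pp` and `ystep_e`: `E(e_i, s (β e_p + z)) ∈ L` -/
theorem ycore_e (L : Subgroup (Cfsg.isometryGroup F ⇑Q))
    (hpm : ∀ i j : Fin k, i ≠ j → ∀ t : F, Fr.xpm i j t ∈ L)
    (y : Cfsg.isometryGroup F ⇑Q) (hy : y ∈ L) (i p : Fin k) (hip : i ≠ p)
    (hye : lin Q y (Fr.e i) = Fr.e i) (α β : F) (z : ι → F) (hz : z ∈ Fr.W)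
    (hyf : lin Q y (Fr.f p) = α • Fr.f p + β • Fr.e p + z) (s : F) :
    eichlerO Q (Fr.e i) (s • (β • Fr.e p + z)) ∈ L := by
  have h1 : polar ⇑Q (Fr.e i) ((s * α) • Fr.f p) = 0 := Fr.polar_e_f hip _
  have h2 : polar ⇑Q (Fr.e i) (s • (β • Fr.e p + z)) = 0 := by
    rw [QuadraticMap.polar_smul_right, QuadraticMap.polar_add_right, QuadraticMap.polar_smul_right,
      Fr.ee, Fr.polar_e_W hz, smul_zero, add_zero, smul_zero]
  have hconj : y * Fr.xpm i p s * y⁻¹ =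
      Fr.xpm i p (s * α) * eichlerO Q (Fr.e i) (s • (β • Fr.e p + z)) := by
    rw [Fr.conj_xpm y hip, hye, hyf]
    unfold HFrame.xpm
    rw [eichlerO_mul _ (Fr.Qe i) h1 h2]
    congr 1
    module
  have hmem : y * Fr.xpm i p s * y⁻¹ ∈ L :=
    L.mul_mem (L.mul_mem hy (hpm i p hip s)) (L.inv_mem hy)
  have e : eichlerO Q (Fr.e i) (s • (β • Fr.e p + z)) =
      (Fr.xpm i p (s * α))⁻¹ * (y * Fr.xpm i p s * y⁻¹) := by
    rw [hconj, inv_mul_cancel_left]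
  rw [e]
  exact L.mul_mem (L.inv_mem (hpm i p hip _)) hmem

/-- the common core of `ystep_mm` and `ystep_f`: `E(f_i, s (β f_p + z)) ∈ L` -/
theorem ycore_f (L : Subgroup (Cfsg.isometryGroup F ⇑Q))
    (hpm : ∀ i j : Fin k, i ≠ j → ∀ t : F, Fr.xpm i j t ∈ L)
    (y : Cfsg.isometryGroup F ⇑Q) (hy : y ∈ L) (i p : Fin k) (hip : i ≠ p)
    (hyf : lin Q y (Fr.f i) = Fr.f i) (α β : F) (z : ι → F) (hz : z ∈ Fr.W)
    (hye : lin Q y (Fr.e p) = α • Fr.e p + β • Fr.f p + z) (s : F) :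
    eichlerO Q (Fr.f i) (s • (β • Fr.f p + z)) ∈ L := by
  have hpi : p ≠ i := hip.symm
  have h0 : polar ⇑Q (Fr.f i) ((-(-s)) • Fr.e p) = 0 := Fr.polar_f_e hip _
  have h1 : polar ⇑Q (Fr.f i) ((-(-(s * α))) • Fr.e p) = 0 := Fr.polar_f_e hip _
  have h2 : polar ⇑Q (Fr.f i) (s • (β • Fr.f p + z)) = 0 := by
    rw [QuadraticMap.polar_smul_right, QuadraticMap.polar_add_right, QuadraticMap.polar_smul_right,
      Fr.ff, Fr.polar_f_W hz, smul_zero, add_zero, smul_zero]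
  have hconj : y * Fr.xpm p i (-s) * y⁻¹ =
      Fr.xpm p i (-(s * α)) * eichlerO Q (Fr.f i) (s • (β • Fr.f p + z)) := by
    rw [Fr.xpm_swap hpi (-s), eichlerO_conj _ y (Fr.Qf i) h0, hyf, map_smul, hye,
      Fr.xpm_swap hpi (-(s * α)), eichlerO_mul _ (Fr.Qf i) h1 h2]
    congr 1
    module
  have hmem : y * Fr.xpm p i (-s) * y⁻¹ ∈ L :=
    L.mul_mem (L.mul_mem hy (hpm p i hpi (-s))) (L.inv_mem hy)
  have e : eichlerO Q (Fr.f i) (s • (β • Fr.f p + z)) =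
      (Fr.xpm p i (-(s * α)))⁻¹ * (y * Fr.xpm p i (-s) * y⁻¹) := by
    rw [hconj, inv_mul_cancel_left]
  rw [e]
  exact L.mul_mem (L.inv_mem (hpm p i hpi _)) hmem

theorem ystep_pp (L : Subgroup (Cfsg.isometryGroup F ⇑Q))
    (hpm : ∀ i j : Fin k, i ≠ j → ∀ t : F, Fr.xpm i j t ∈ L)
    (y : Cfsg.isometryGroup F ⇑Q) (hy : y ∈ L) (i p j : Fin k) (hip : i ≠ p) (hij : i ≠ j) (hjp : j ≠ p)
    (hye : lin Q y (Fr.e i) = Fr.e i) (α β : F) (z : ι → F) (hz : z ∈ Fr.W) (hβ : β ≠ 0)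
    (hyf : lin Q y (Fr.f p) = α • Fr.f p + β • Fr.e p + z) :
    ∀ t : F, Fr.xpp i j t ∈ L := by
  intro t
  set s := t / β with hs
  have hB := ycore_e Fr L hpm y hy i p hip hye α β z hz hyf s
  have hg : Fr.xpm j p 1 ∈ L := hpm j p hjp 1
  have hgi : lin Q (Fr.xpm j p 1) (Fr.e i) = Fr.e i := by
    rw [Fr.xpm_e hjp, if_neg hip, zero_smul, add_zero]
  have hgp : lin Q (Fr.xpm j p 1) (Fr.e p) = Fr.e p + Fr.e j := by
    rw [Fr.xpm_e hjp, if_pos rfl, one_smul]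
  have hgz : lin Q (Fr.xpm j p 1) z = z := Fr.xpm_W hjp 1 hz
  have h2 : polar ⇑Q (Fr.e i) (s • (β • Fr.e p + z)) = 0 := by
    rw [QuadraticMap.polar_smul_right, QuadraticMap.polar_add_right, QuadraticMap.polar_smul_right,
      Fr.ee, Fr.polar_e_W hz, smul_zero, add_zero, smul_zero]
  have h3 : polar ⇑Q (Fr.e i) (t • Fr.e j) = 0 := Fr.polar_e_e i j t
  have hconj : Fr.xpm j p 1 * eichlerO Q (Fr.e i) (s • (β • Fr.e p + z)) * (Fr.xpm j p 1)⁻¹ =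
      eichlerO Q (Fr.e i) (s • (β • Fr.e p + z)) * Fr.xpp i j t := by
    rw [eichlerO_conj _ _ (Fr.Qe i) h2, hgi, map_smul, map_add, map_smul, hgp, hgz]
    unfold HFrame.xpp
    rw [eichlerO_mul _ (Fr.Qe i) h2 h3]
    congr 1
    have ht : t = s * β := by rw [hs]; field_simp
    rw [ht]
    module
  have hmem : Fr.xpm j p 1 * eichlerO Q (Fr.e i) (s • (β • Fr.e p + z)) * (Fr.xpm j p 1)⁻¹ ∈ L :=
    L.mul_mem (L.mul_mem hg hB) (L.inv_mem hg)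
  have e : Fr.xpp i j t = (eichlerO Q (Fr.e i) (s • (β • Fr.e p + z)))⁻¹ *
      (Fr.xpm j p 1 * eichlerO Q (Fr.e i) (s • (β • Fr.e p + z)) * (Fr.xpm j p 1)⁻¹) := by
    rw [hconj, inv_mul_cancel_left]
  rw [e]
  exact L.mul_mem (L.inv_mem hB) hmem

theorem ystep_e (L : Subgroup (Cfsg.isometryGroup F ⇑Q))
    (hpm : ∀ i j : Fin k, i ≠ j → ∀ t : F, Fr.xpm i j t ∈ L)
    (hpp : ∀ i j : Fin k, i ≠ j → ∀ t : F, Fr.xpp i j t ∈ L)
    (y : Cfsg.isometryGroup F ⇑Q) (hy : y ∈ L) (i p : Fin k) (hip : i ≠ p)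
    (hye : lin Q y (Fr.e i) = Fr.e i) (α β : F) (z : ι → F) (hz : z ∈ Fr.W)
    (hyf : lin Q y (Fr.f p) = α • Fr.f p + β • Fr.e p + z) :
    ∀ s : F, Fr.xe i (s • z) ∈ L := by
  intro s
  have hB := ycore_e Fr L hpm y hy i p hip hye α β z hz hyf s
  have h1 : polar ⇑Q (Fr.e i) ((s * β) • Fr.e p) = 0 := Fr.polar_e_e i p _
  have h2 : polar ⇑Q (Fr.e i) (s • z) = 0 := by
    rw [QuadraticMap.polar_smul_right, Fr.polar_e_W hz, smul_zero]
  have e : eichlerO Q (Fr.e i) (s • (β • Fr.e p + z)) = Fr.xpp i p (s * β) * Fr.xe i (s • z) := by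
    unfold HFrame.xpp HFrame.xe
    rw [eichlerO_mul _ (Fr.Qe i) h1 h2]
    congr 1
    module
  have e2 : Fr.xe i (s • z) =
      (Fr.xpp i p (s * β))⁻¹ * eichlerO Q (Fr.e i) (s • (β • Fr.e p + z)) := by
    rw [e, inv_mul_cancel_left]
  rw [e2]
  exact L.mul_mem (L.inv_mem (hpp i p hip _)) hB

theorem ystep_mm (L : Subgroup (Cfsg.isometryGroup F ⇑Q))
    (hpm : ∀ i j : Fin k, i ≠ j → ∀ t : F, Fr.xpm i j t ∈ L)
    (y : Cfsg.isometryGroup F ⇑Q) (hy : y ∈ L) (i p j : Fin k) (hip : i ≠ p) (hij : i ≠ j) (hjp : j ≠ p)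
    (hyf : lin Q y (Fr.f i) = Fr.f i) (α β : F) (z : ι → F) (hz : z ∈ Fr.W) (hβ : β ≠ 0)
    (hye : lin Q y (Fr.e p) = α • Fr.e p + β • Fr.f p + z) :
    ∀ t : F, Fr.xmm i j t ∈ L := by
  intro t
  set s := t / β with hs
  have hpj : p ≠ j := hjp.symm
  have hB := ycore_f Fr L hpm y hy i p hip hyf α β z hz hye s
  have hg : Fr.xpm p j (-1) ∈ L := hpm p j hpj (-1)
  have hgi : lin Q (Fr.xpm p j (-1)) (Fr.f i) = Fr.f i := by
    rw [Fr.xpm_f hpj, if_neg hip, zero_smul, sub_zero]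
  have hgp : lin Q (Fr.xpm p j (-1)) (Fr.f p) = Fr.f p + Fr.f j := by
    rw [Fr.xpm_f hpj, if_pos rfl, neg_smul, one_smul, sub_neg_eq_add]
  have hgz : lin Q (Fr.xpm p j (-1)) z = z := Fr.xpm_W hpj (-1) hz
  have h2 : polar ⇑Q (Fr.f i) (s • (β • Fr.f p + z)) = 0 := by
    rw [QuadraticMap.polar_smul_right, QuadraticMap.polar_add_right, QuadraticMap.polar_smul_right,
      Fr.ff, Fr.polar_f_W hz, smul_zero, add_zero, smul_zero]
  have h3 : polar ⇑Q (Fr.f i) (t • Fr.f j) = 0 := Fr.polar_f_f i j t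
  have hconj : Fr.xpm p j (-1) * eichlerO Q (Fr.f i) (s • (β • Fr.f p + z)) * (Fr.xpm p j (-1))⁻¹ =
      eichlerO Q (Fr.f i) (s • (β • Fr.f p + z)) * Fr.xmm i j t := by
    rw [eichlerO_conj _ _ (Fr.Qf i) h2, hgi, map_smul, map_add, map_smul, hgp, hgz]
    unfold HFrame.xmm
    rw [eichlerO_mul _ (Fr.Qf i) h2 h3]
    congr 1
    have ht : t = s * β := by rw [hs]; field_simp
    rw [ht]
    module
  have hmem : Fr.xpm p j (-1) * eichlerO Q (Fr.f i) (s • (β • Fr.f p + z)) * (Fr.xpm p j (-1))⁻¹ ∈ L :=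
    L.mul_mem (L.mul_mem hg hB) (L.inv_mem hg)
  have e : Fr.xmm i j t = (eichlerO Q (Fr.f i) (s • (β • Fr.f p + z)))⁻¹ *
      (Fr.xpm p j (-1) * eichlerO Q (Fr.f i) (s • (β • Fr.f p + z)) * (Fr.xpm p j (-1))⁻¹) := by
    rw [hconj, inv_mul_cancel_left]
  rw [e]
  exact L.mul_mem (L.inv_mem hB) hmem

theorem ystep_f (L : Subgroup (Cfsg.isometryGroup F ⇑Q))
    (hpm : ∀ i j : Fin k, i ≠ j → ∀ t : F, Fr.xpm i j t ∈ L)
    (hmm : ∀ i j : Fin k, i ≠ j → ∀ t : F, Fr.xmm i j t ∈ L)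
    (y : Cfsg.isometryGroup F ⇑Q) (hy : y ∈ L) (i p : Fin k) (hip : i ≠ p)
    (hyf : lin Q y (Fr.f i) = Fr.f i) (α β : F) (z : ι → F) (hz : z ∈ Fr.W)
    (hye : lin Q y (Fr.e p) = α • Fr.e p + β • Fr.f p + z) :
    ∀ s : F, Fr.xf i (s • z) ∈ L := by
  intro s
  have hB := ycore_f Fr L hpm y hy i p hip hyf α β z hz hye s
  have h1 : polar ⇑Q (Fr.f i) ((s * β) • Fr.f p) = 0 := Fr.polar_f_f i p _
  have h2 : polar ⇑Q (Fr.f i) (s • z) = 0 := by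
    rw [QuadraticMap.polar_smul_right, Fr.polar_f_W hz, smul_zero]
  have e : eichlerO Q (Fr.f i) (s • (β • Fr.f p + z)) = Fr.xmm i p (s * β) * Fr.xf i (s • z) := by
    unfold HFrame.xmm HFrame.xf
    rw [eichlerO_mul _ (Fr.Qf i) h1 h2]
    congr 1
    module
  have e2 : Fr.xf i (s • z) =
      (Fr.xmm i p (s * β))⁻¹ * eichlerO Q (Fr.f i) (s • (β • Fr.f p + z)) := by
    rw [e, inv_mul_cancel_left]
  rw [e2]
  exact L.mul_mem (L.inv_mem (hmm i p hip _)) hB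

end Cfsg.Agent.Helper40.Frame
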