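import Cfsg.Agent.Helper40.Frame.AddLeft
import Cfsg.Agent.Helper40.Frame.CritA
import Cfsg.Agent.Helper40.Frame.CritB
import Cfsg.Agent.Helper40.Frame.Spread
import Cfsg.Agent.Helper40.Frame.SpreadE
import Cfsg.Agent.Helper40.Frame.YStep

set_option autoImplicit false

namespace Cfsg.Agent.Helper40.Frame

open Matrix QuadraticMap Cfsg.Agent.Helper44 Cfsg.Agent.Helper45.OmegaParity Cfsg.Agent.Helper5

variable {F : Type*} [Field F] {ι : Type} [Fintype ι] [DecidableEq ι]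
variable {Q : QuadraticForm F (ι → F)} {k : ℕ} (Fr : HFrame Q k)

/-- (F-CRITC) a subgroup containing all the root elements of a frame with anisotropic complement contains the
Eichler group -/
theorem crit (haniso : ∀ z ∈ Fr.W, Q z = 0 → z = 0) (L : Subgroup (Cfsg.isometryGroup F ⇑Q))
    (hpp : ∀ i j : Fin k, i ≠ j → ∀ t : F, Fr.xpp i j t ∈ L)
    (hpm : ∀ i j : Fin k, i ≠ j → ∀ t : F, Fr.xpm i j t ∈ L)
    (hmm : ∀ i j : Fin k, i ≠ j → ∀ t : F, Fr.xmm i j t ∈ L)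
    (he : ∀ i : Fin k, ∀ z ∈ Fr.W, Fr.xe i z ∈ L)
    (hf : ∀ i : Fin k, ∀ z ∈ Fr.W, Fr.xf i z ∈ L) :
    eichlerGroup Q ≤ L := by
  unfold eichlerGroup
  rw [Subgroup.closure_le]
  rintro g ⟨u, w, hu, huw, rfl⟩
  by_cases h0 : u = 0
  · subst h0
    rw [eichlerO_zero_left]
    exact one_mem _
  have hex : ∃ i, polar ⇑Q (Fr.f i) u ≠ 0 ∨ polar ⇑Q (Fr.e i) u ≠ 0 := by
    by_contra hcon
    push Not at hcon
    exact h0 (haniso u (fun i => ⟨(hcon i).2, (hcon i).1⟩) hu)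
  obtain ⟨i, hi | hi⟩ := hex
  · obtain ⟨w', hw', hg⟩ := move_to_e Fr u hu i hi
    have hgL : eichlerO Q (Fr.f i) w' ∈ L := eichler_f_mem Fr L hpm hmm hf i w' hw'
    have hconj := eichlerO_conj Q (eichlerO Q (Fr.f i) w') hu huw
    have hpol : polar ⇑Q (Fr.e i) (lin Q (eichlerO Q (Fr.f i) w') w) = 0 := by
      have h1 := polar_lin Q (eichlerO Q (Fr.f i) w') u w
      rw [hg, huw, QuadraticMap.polar_smul_left, smul_eq_mul] at h1
      exact (mul_eq_zero.1 h1).resolve_left hi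
    rw [hg, eichlerO_smul_left _ (Fr.Qe i) hpol] at hconj
    have hE : eichlerO Q (Fr.e i) (polar ⇑Q (Fr.f i) u • lin Q (eichlerO Q (Fr.f i) w') w) ∈ L := by
      apply eichler_e_mem Fr L hpp hpm he
      rw [QuadraticMap.polar_smul_right, hpol, smul_zero]
    rw [← hconj] at hE
    have := L.mul_mem (L.mul_mem (L.inv_mem hgL) hE) hgL
    have e : ∀ a b : Cfsg.isometryGroup F ⇑Q, a⁻¹ * (a * b * a⁻¹) * a = b := by intro a b; group
    rwa [e] at this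
  · obtain ⟨w', hw', hg⟩ := move_to_f Fr u hu i hi
    have hgL : eichlerO Q (Fr.e i) w' ∈ L := eichler_e_mem Fr L hpp hpm he i w' hw'
    have hconj := eichlerO_conj Q (eichlerO Q (Fr.e i) w') hu huw
    have hpol : polar ⇑Q (Fr.f i) (lin Q (eichlerO Q (Fr.e i) w') w) = 0 := by
      have h1 := polar_lin Q (eichlerO Q (Fr.e i) w') u w
      rw [hg, huw, QuadraticMap.polar_smul_left, smul_eq_mul] at h1
      exact (mul_eq_zero.1 h1).resolve_left hi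
    rw [hg, eichlerO_smul_left _ (Fr.Qf i) hpol] at hconj
    have hE : eichlerO Q (Fr.f i) (polar ⇑Q (Fr.e i) u • lin Q (eichlerO Q (Fr.e i) w') w) ∈ L := by
      apply eichler_f_mem Fr L hpm hmm hf
      rw [QuadraticMap.polar_smul_right, hpol, smul_zero]
    rw [← hconj] at hE
    have := L.mul_mem (L.mul_mem (L.inv_mem hgL) hE) hgL
    have e : ∀ a b : Cfsg.isometryGroup F ⇑Q, a⁻¹ * (a * b * a⁻¹) * a = b := by intro a b; group
    rwa [e] at this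

/-- (F-MAIN) the generation criterion for a frame whose complement is spanned by one vector -/
theorem frame_le (haniso : ∀ z ∈ Fr.W, Q z = 0 → z = 0) (L : Subgroup (Cfsg.isometryGroup F ⇑Q))
    (hpm : ∀ i j : Fin k, i ≠ j → ∀ t : F, Fr.xpm i j t ∈ L)
    (y₁ y₂ : Cfsg.isometryGroup F ⇑Q) (hy₁ : y₁ ∈ L) (hy₂ : y₂ ∈ L)
    (i p j : Fin k) (hip : i ≠ p) (hij : i ≠ j) (hjp : j ≠ p)
    (h1e : lin Q y₁ (Fr.e i) = Fr.e i) (α₁ β₁ : F) (z₁ : ι → F) (hz₁ : z₁ ∈ Fr.W) (hβ₁ : β₁ ≠ 0)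
    (h1f : lin Q y₁ (Fr.f p) = α₁ • Fr.f p + β₁ • Fr.e p + z₁)
    (h2f : lin Q y₂ (Fr.f i) = Fr.f i) (α₂ β₂ : F) (z₂ : ι → F) (hz₂ : z₂ ∈ Fr.W) (hβ₂ : β₂ ≠ 0)
    (h2e : lin Q y₂ (Fr.e p) = α₂ • Fr.e p + β₂ • Fr.f p + z₂)
    (hW₁ : ∀ z ∈ Fr.W, ∃ s : F, z = s • z₁) (hW₂ : ∀ z ∈ Fr.W, ∃ s : F, z = s • z₂) :
    eichlerGroup Q ≤ L := by
  have hpp0 := ystep_pp Fr L hpm y₁ hy₁ i p j hip hij hjp h1e α₁ β₁ z₁ hz₁ hβ₁ h1f
  have hpp := spread_pp Fr L hpm i j hij hpp0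
  have he0 := ystep_e Fr L hpm hpp y₁ hy₁ i p hip h1e α₁ β₁ z₁ hz₁ h1f
  have he1 : ∀ z ∈ Fr.W, Fr.xe i z ∈ L := by
    intro z hz
    obtain ⟨s, rfl⟩ := hW₁ z hz
    exact he0 s
  have he := spread_e Fr L hpm hpp i Fr.W le_rfl he1
  have hmm0 := ystep_mm Fr L hpm y₂ hy₂ i p j hip hij hjp h2f α₂ β₂ z₂ hz₂ hβ₂ h2e
  have hmm := spread_mm Fr L hpm i j hij hmm0
  have hf0 := ystep_f Fr L hpm hmm y₂ hy₂ i p hip h2f α₂ β₂ z₂ hz₂ h2e
  have hf1 : ∀ z ∈ Fr.W, Fr.xf i z ∈ L := by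
    intro z hz
    obtain ⟨s, rfl⟩ := hW₂ z hz
    exact hf0 s
  have hf := spread_f Fr L hpm hmm i Fr.W le_rfl hf1
  exact crit Fr haniso L hpp hpm hmm he hf

end Cfsg.Agent.Helper40.Frame
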